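import Mathlib

/-!
Gradings of modules indexed by an ordered group, the filtrations they define, retracts, tensor powers.
-/

set_option autoImplicit false

namespace Groth.FiltModH

universe u v w z

variable {Γ : Type w} {R : Type u} [CommRing R] {M : Type v} [AddCommGroup M] [Module R M]

theorem exists_proj [DecidableEq Γ] {G : Γ → Submodule R M} (hG : DirectSum.IsInternal G) :
    ∃ π : Γ → M →ₗ[R] M, (∀ γ x, π γ x ∈ G γ) ∧ (∀ γ, ∀ x ∈ G γ, π γ x = x) ∧
      (∀ γ η, γ ≠ η → ∀ x ∈ G η, π γ x = 0) := by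
  let e := LinearEquiv.ofBijective (DirectSum.coeLinearMap G) hG
  refine ⟨fun γ => (G γ).subtype ∘ₗ DirectSum.component R Γ (fun i => G i) γ ∘ₗ e.symm.toLinearMap,
    fun γ x => Subtype.prop _, fun γ x hx => ?_, fun γ η hne x hx => ?_⟩
  · have : e.symm x = DirectSum.of (fun i => G i) γ ⟨x, hx⟩ := e.symm_apply_eq.2 (by simp [e])
    show ((DirectSum.component R Γ (fun i => G i) γ (e.symm x) : G γ) : M) = x
    rw [this, ← DirectSum.lof_eq_of R, DirectSum.component.lof_self]
  · have : e.symm x = DirectSum.of (fun i => G i) η ⟨x, hx⟩ := e.symm_apply_eq.2 (by simp [e])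
    show ((DirectSum.component R Γ (fun i => G i) γ (e.symm x) : G γ) : M) = 0
    rw [this, ← DirectSum.lof_eq_of R, DirectSum.component.of, dif_neg (Ne.symm hne)]
    rfl

theorem exists_finset [DecidableEq Γ] [Module.Finite R M] {G : Γ → Submodule R M} (hG : DirectSum.IsInternal G)
    {π : Γ → M →ₗ[R] M} (h₁ : ∀ γ, ∀ x ∈ G γ, π γ x = x) (h₀ : ∀ γ η, γ ≠ η → ∀ x ∈ G η, π γ x = 0) :
    ∃ S : Finset Γ, ∀ x, ∑ γ ∈ S, π γ x = x := by
  have htop : ⨆ γ, G γ = ⊤ := hG.submodule_iSup_eq_top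
  obtain ⟨t, ht⟩ := (Module.Finite.fg_top : (⊤ : Submodule R M).FG)
  have hfin : ∀ x : M, ∃ S : Finset Γ, x ∈ ⨆ γ ∈ S, G γ := fun x =>
    Submodule.exists_finset_of_mem_iSup G (htop ▸ Submodule.mem_top : x ∈ ⨆ γ, G γ)
  choose T hT using hfin
  let S : Finset Γ := t.biUnion T
  have hS : (⊤ : Submodule R M) ≤ ⨆ γ ∈ S, G γ := by
    rw [← ht, Submodule.span_le]
    intro x hx
    exact (iSup₂_le fun γ hγ => le_iSup₂_of_le γ (Finset.mem_biUnion.2 ⟨x, hx, hγ⟩) le_rfl :
      (⨆ γ ∈ T x, G γ) ≤ ⨆ γ ∈ S, G γ) (hT x)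
  refine ⟨S, fun x => ?_⟩
  have hx : x ∈ ⨆ γ ∈ S, G γ := hS trivial
  induction hx using Submodule.iSup_induction' with
  | mem γ y hy =>
    by_cases hγ : γ ∈ S
    · rw [iSup_pos hγ] at hy
      rw [Finset.sum_eq_single γ (fun η _ hne => h₀ η γ hne y hy) (fun h => absurd hγ h), h₁ γ y hy]
    · rw [iSup_neg hγ, Submodule.mem_bot] at hy
      simp [hy]
  | zero => simp
  | add a b _ _ ha hb => simp only [map_add, Finset.sum_add_distrib, ha, hb]

theorem proj_mem_iff [LinearOrder Γ] [Module.Finite R M] {G : Γ → Submodule R M} (hG : DirectSum.IsInternal G)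
    {π : Γ → M →ₗ[R] M} (hm : ∀ γ x, π γ x ∈ G γ) (h₁ : ∀ γ, ∀ x ∈ G γ, π γ x = x)
    (h₀ : ∀ γ η, γ ≠ η → ∀ x ∈ G η, π γ x = 0) (P : Set Γ) (x : M) :
    x ∈ ⨆ η ∈ P, G η ↔ ∀ η ∉ P, π η x = 0 := by
  constructor
  · intro hx η hη
    have : (⨆ ζ ∈ P, G ζ) ≤ LinearMap.ker (π η) :=
      iSup₂_le fun ζ hζ y hy => h₀ η ζ (fun e => hη (e ▸ hζ)) y hy
    exact this hx
  · intro h
    obtain ⟨S, hS⟩ := exists_finset hG h₁ h₀
    rw [← hS x]
    refine Submodule.sum_mem _ fun η _ => ?_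
    by_cases hη : η ∈ P
    · exact Submodule.mem_iSup_of_mem η (Submodule.mem_iSup_of_mem hη (hm η x))
    · rw [h η hη]; exact zero_mem _

variable [LinearOrder Γ] [Module.Finite R M]
variable {N : Type z} [AddCommGroup N] [Module R N]

/-- A retract of a split filtration is split. -/
theorem exists_splitting_of_retract {G : Γ → Submodule R M} (hG : DirectSum.IsInternal G)
    (F : Γ → Submodule R M) (hF : ∀ γ, F γ = ⨆ η ∈ Set.Ici γ, G η)
    (F' : Γ → Submodule R N) (hF' : Antitone F') (i : N →ₗ[R] M) (p : M →ₗ[R] N) (hpi : ∀ x, p (i x) = x)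
    (hi : ∀ γ, ∀ x ∈ F' γ, i x ∈ F γ) (hp : ∀ γ, ∀ y ∈ F γ, p y ∈ F' γ) :
    ∃ G' : Γ → Submodule R N, DirectSum.IsInternal G' ∧ ∀ γ, F' γ = ⨆ η ∈ Set.Ici γ, G' η := by
  classical
  obtain ⟨π, hm, h₁, h₀⟩ := exists_proj hG
  obtain ⟨S, hS⟩ := exists_finset hG h₁ h₀
  let T : Γ → N →ₗ[R] N := fun γ => p ∘ₗ π γ ∘ₗ i
  let G' : Γ → Submodule R N := fun γ => (F' γ).map (T γ)
  have hGF : ∀ γ, G' γ ≤ F' γ := by
    rintro γ _ ⟨x, -, rfl⟩
    refine hp γ _ ?_
    rw [hF]
    exact Submodule.mem_iSup_of_mem γ (Submodule.mem_iSup_of_mem (Set.self_mem_Ici) (hm γ _))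
  have hgt : ∀ γ x, x ∈ F' γ → i x - π γ (i x) ∈ ⨆ η ∈ Set.Ioi γ, G η := by
    intro γ x hx
    rw [proj_mem_iff hG hm h₁ h₀]
    intro η hη
    have h := (proj_mem_iff hG hm h₁ h₀ (Set.Ici γ) (i x)).1 (hF γ ▸ hi γ x hx)
    rcases eq_or_ne η γ with rfl | hne
    · rw [map_sub, h₁ η _ (hm η _), sub_self]
    · rw [map_sub, h η (fun hle => hη (lt_of_le_of_ne hle hne.symm)), h₀ η γ hne _ (hm γ _), sub_zero]
  -- the part above a given index
  have habove : ∀ γ, ∀ z ∈ (⨆ η ∈ Set.Ioi γ, G η), ∀ ζ, ζ ≤ γ → π ζ z = 0 := fun γ z hz ζ hζ =>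
    (proj_mem_iff hG hm h₁ h₀ _ z).1 hz ζ (not_lt.2 hζ)
  have hspan : ∀ (n : ℕ) (γ : Γ), (S.filter (γ ≤ ·)).card ≤ n → F' γ ≤ ⨆ η ∈ Set.Ici γ, G' η := by
    intro n
    induction n using Nat.strong_induction_on with
    | _ n ih =>
      intro γ hn x hx
      rcases (S.filter (γ ≤ ·)).eq_empty_or_nonempty with he | he
      · have h := (proj_mem_iff hG hm h₁ h₀ (Set.Ici γ) (i x)).1 (hF γ ▸ hi γ x hx)
        have : i x = 0 := by
          rw [← hS (i x)]
          exact Finset.sum_eq_zero fun η hη => h η fun hle => by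
            have : η ∈ S.filter (γ ≤ ·) := Finset.mem_filter.2 ⟨hη, hle⟩
            simp [he] at this
        rw [← hpi x, this, map_zero]
        exact zero_mem _
      · let η₀ := (S.filter (γ ≤ ·)).min' he
        have hη₀ : η₀ ∈ S ∧ γ ≤ η₀ := Finset.mem_filter.1 (Finset.min'_mem _ he)
        have h := (proj_mem_iff hG hm h₁ h₀ (Set.Ici γ) (i x)).1 (hF γ ▸ hi γ x hx)
        have hxη : x ∈ F' η₀ := by
          rw [← hpi x]
          refine hp η₀ _ ?_
          rw [hF, ← hS (i x)]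
          refine Submodule.sum_mem _ fun η hη => ?_
          by_cases hle : η₀ ≤ η
          · exact Submodule.mem_iSup_of_mem η (Submodule.mem_iSup_of_mem hle (hm η _))
          · rw [h η fun hγ => hle (Finset.min'_le _ η (Finset.mem_filter.2 ⟨hη, hγ⟩))]
            exact zero_mem _
        have hT : T η₀ x ∈ ⨆ η ∈ Set.Ici γ, G' η :=
          Submodule.mem_iSup_of_mem η₀ (Submodule.mem_iSup_of_mem hη₀.2 ⟨x, hxη, rfl⟩)
        have hrest : x - T η₀ x ∈ ⨆ η ∈ Set.Ici γ, G' η := by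
          have hz := hgt η₀ x hxη
          rcases (S.filter (η₀ < ·)).eq_empty_or_nonempty with he' | he'
          · have : i x - π η₀ (i x) = 0 := by
              rw [← hS (i x - π η₀ (i x))]
              exact Finset.sum_eq_zero fun η hη => habove η₀ _ hz η (not_lt.1 fun hlt => by
                have : η ∈ S.filter (η₀ < ·) := Finset.mem_filter.2 ⟨hη, hlt⟩
                simp [he'] at this)
            have : x - T η₀ x = 0 := by
              rw [← hpi x]; show p (i x) - p (π η₀ (i (p (i x)))) = 0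
              rw [hpi, ← map_zero p, ← this, map_sub, hpi]
            rw [this]; exact zero_mem _
          · let η₁ := (S.filter (η₀ < ·)).min' he'
            have hη₁ : η₁ ∈ S ∧ η₀ < η₁ := Finset.mem_filter.1 (Finset.min'_mem _ he')
            have hmem : x - T η₀ x ∈ F' η₁ := by
              have e : x - T η₀ x = p (i x - π η₀ (i x)) := by rw [map_sub, hpi]; rfl
              rw [e]
              refine hp η₁ _ ?_
              rw [hF, ← hS (i x - π η₀ (i x))]
              refine Submodule.sum_mem _ fun η hη => ?_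
              by_cases hle : η₁ ≤ η
              · exact Submodule.mem_iSup_of_mem η (Submodule.mem_iSup_of_mem hle (hm η _))
              · rw [habove η₀ _ hz η (not_lt.1 fun hlt => hle (Finset.min'_le _ η (Finset.mem_filter.2 ⟨hη, hlt⟩)))]
                exact zero_mem _
            have hlt : (S.filter (η₁ ≤ ·)).card < (S.filter (γ ≤ ·)).card := by
              refine Finset.card_lt_card (Finset.ssubset_iff_of_subset ?_ |>.2 ⟨η₀, Finset.min'_mem _ he, fun h' => ?_⟩)
              · intro η hη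
                rw [Finset.mem_filter] at hη ⊢
                exact ⟨hη.1, (hη₀.2.trans hη₁.2.le).trans hη.2⟩
              · exact not_le.2 hη₁.2 (Finset.mem_filter.1 h').2
            have hle1 : (Set.Ici η₁ : Set Γ) ⊆ Set.Ici γ := Set.Ici_subset_Ici.2 (hη₀.2.trans hη₁.2.le)
            exact (iSup₂_le fun η hη => le_iSup₂_of_le η (hle1 hη) le_rfl :
              (⨆ η ∈ Set.Ici η₁, G' η) ≤ ⨆ η ∈ Set.Ici γ, G' η)
              (ih _ (lt_of_lt_of_le hlt hn) η₁ le_rfl hmem)
        simpa using add_mem hrest hT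
  refine ⟨G', ?_, fun γ => le_antisymm (hspan _ γ le_rfl) (iSup₂_le fun η hη => (hGF η).trans (hF' hη))⟩
  rw [DirectSum.isInternal_submodule_iff_iSupIndep_and_iSup_eq_top]
  refine ⟨?_, ?_⟩
  · rw [iSupIndep_iff_finset_sum_eq_zero_imp_eq_zero]
    intro s g hg hsum
    by_contra hne
    push Not at hne
    obtain ⟨γ₁, hγ₁, hne⟩ := hne
    let s' := s.filter fun η => g η ≠ 0
    have hs' : s'.Nonempty := ⟨γ₁, Finset.mem_filter.2 ⟨hγ₁, hne⟩⟩
    let γ := s'.min' hs'
    obtain ⟨hγs, hγne⟩ := Finset.mem_filter.1 (s'.min'_mem hs')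
    obtain ⟨x, hx, hxg⟩ := hg γ hγs
    apply hγne
    rw [← hxg]
    show p (π γ (i x)) = 0
    have hb : i (g γ) ∈ ⨆ η ∈ Set.Ioi γ, G η := by
      have e : g γ = - ∑ η ∈ s'.erase γ, g η := by
        rw [eq_neg_iff_add_eq_zero, Finset.add_sum_erase _ _ (s'.min'_mem hs'), Finset.sum_filter_ne_zero, hsum]
      rw [e, map_neg, map_sum]
      refine neg_mem (Submodule.sum_mem _ fun η hη => ?_)
      obtain ⟨hne', hη'⟩ := Finset.mem_erase.1 hη
      have h2 := hi η _ (hGF η (hg η (Finset.mem_filter.1 hη').1))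
      rw [hF] at h2
      exact (iSup₂_le fun ζ hζ => le_iSup₂_of_le ζ
        (lt_of_lt_of_le (lt_of_le_of_ne (s'.min'_le η hη') hne'.symm) hζ) le_rfl :
        (⨆ ζ ∈ Set.Ici η, G ζ) ≤ ⨆ ζ ∈ Set.Ioi γ, G ζ) h2
    have hc : i x - i (g γ) ∈ ⨆ η ∈ Set.Ioi γ, G η := by
      have e : i x - i (g γ) = i (p (i x - π γ (i x))) := by
        rw [← hxg, map_sub, hpi, map_sub]; rfl
      rw [e]
      have hz := hgt γ x hx
      rcases (S.filter (γ < ·)).eq_empty_or_nonempty with he | he
      · have h0 : i x - π γ (i x) = 0 := by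
          rw [← hS (i x - π γ (i x))]
          exact Finset.sum_eq_zero fun η hη => habove γ _ hz η (not_lt.1 fun hlt => by
            have : η ∈ S.filter (γ < ·) := Finset.mem_filter.2 ⟨hη, hlt⟩
            simp [he] at this)
        rw [h0, map_zero, map_zero]; exact zero_mem _
      · let η₁ := (S.filter (γ < ·)).min' he
        have hη₁ : γ < η₁ := (Finset.mem_filter.1 (Finset.min'_mem _ he)).2
        have : i x - π γ (i x) ∈ F η₁ := by
          rw [hF, ← hS (i x - π γ (i x))]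
          refine Submodule.sum_mem _ fun η hη => ?_
          by_cases hle : η₁ ≤ η
          · exact Submodule.mem_iSup_of_mem η (Submodule.mem_iSup_of_mem hle (hm η _))
          · rw [habove γ _ hz η (not_lt.1 fun hlt => hle (Finset.min'_le _ η (Finset.mem_filter.2 ⟨hη, hlt⟩)))]
            exact zero_mem _
        have h2 := hi η₁ _ (hp η₁ _ this)
        rw [hF] at h2
        exact (iSup₂_le fun ζ hζ => le_iSup₂_of_le ζ (lt_of_lt_of_le hη₁ hζ) le_rfl :
          (⨆ ζ ∈ Set.Ici η₁, G ζ) ≤ ⨆ ζ ∈ Set.Ioi γ, G ζ) h2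
    have := habove γ _ (add_mem hc hb) γ le_rfl
    rw [sub_add_cancel] at this
    rw [this, map_zero]
  · rw [eq_top_iff]
    intro x _
    rcases S.eq_empty_or_nonempty with he | he
    · have : i x = 0 := by rw [← hS (i x), he, Finset.sum_empty]
      rw [← hpi x, this, map_zero]; exact zero_mem _
    · have hx : x ∈ F' (S.min' he) := by
        rw [← hpi x]
        refine hp _ _ ?_
        rw [hF, ← hS (i x)]
        exact Submodule.sum_mem _ fun η hη =>
          Submodule.mem_iSup_of_mem η (Submodule.mem_iSup_of_mem (Finset.min'_le S η hη) (hm η _))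
      exact (iSup₂_le fun η _ => le_iSup G' η : (⨆ η ∈ Set.Ici (S.min' he), G' η) ≤ ⨆ η, G' η)
        (hspan _ _ le_rfl hx)

omit [LinearOrder Γ] in
theorem mem_smul_top_of_forall_dual [Module.Projective R M] (J : Ideal R) (x : M)
    (h : ∀ φ : M →ₗ[R] R, φ x ∈ J) : x ∈ J • (⊤ : Submodule R M) := by
  obtain ⟨s, hs⟩ := Module.projective_def.1 (inferInstance : Module.Projective R M)
  rw [← hs x, Finsupp.linearCombination_apply]
  refine Submodule.sum_mem _ fun m _ => Submodule.smul_mem_smul ?_ Submodule.mem_top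
  exact h (Finsupp.lapply m ∘ₗ s)

omit [LinearOrder Γ] [Module.Finite R M] in
/-- Evaluation of a product of functionals on the span of pure tensors from given submodules. -/
theorem prod_apply_eq_zero {k : ℕ} {ι : Type*} (W : ι → Fin k → Submodule R M) (V : Fin k → Submodule R M)
    (φ : Fin k → M →ₗ[R] R) (hW : ∀ c, ∃ j, ∀ x ∈ W c j, φ j x = 0)
    (h : LinearMap.range (PiTensorProduct.map (R := R) fun j => (V j).subtype) ≤
      ⨆ c, LinearMap.range (PiTensorProduct.map (R := R) fun j => (W c j).subtype))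
    (x : Fin k → M) (hx : ∀ j, x j ∈ V j) : ∏ j, φ j (x j) = 0 := by
  let Φ : (PiTensorProduct R fun _ : Fin k => M) →ₗ[R] R :=
    PiTensorProduct.lift ((MultilinearMap.mkPiAlgebra R (Fin k) R).compLinearMap φ)
  have hΦ : ∀ y : Fin k → M, Φ (PiTensorProduct.tprod R y) = ∏ j, φ j (y j) := fun y => by
    simp [Φ, PiTensorProduct.lift.tprod]
  have hmem : PiTensorProduct.tprod R x ∈ LinearMap.range (PiTensorProduct.map (R := R) fun j => (V j).subtype) :=
    ⟨PiTensorProduct.tprod R (fun j => (⟨x j, hx j⟩ : V j)), by simp [PiTensorProduct.map_tprod]⟩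
  have hle : (⨆ c, LinearMap.range (PiTensorProduct.map (R := R) fun j => (W c j).subtype)) ≤ LinearMap.ker Φ := by
    refine iSup_le fun c => ?_
    rintro _ ⟨y, rfl⟩
    rw [LinearMap.mem_ker]
    induction y using PiTensorProduct.induction_on with
    | smul_tprod r g =>
      obtain ⟨j, hj⟩ := hW c
      rw [map_smul, map_smul, PiTensorProduct.map_tprod, hΦ,
        Finset.prod_eq_zero (Finset.mem_univ j) (hj _ (g j).2), smul_zero]
    | add a b ha hb => rw [map_add, map_add, ha, hb, add_zero]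
  rw [← hΦ]
  exact hle (h hmem)

end Groth.FiltModH
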