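import Groth.Agent.FiltModH.Basic

/-!
Fibre dimensions of a split filtration; a filtration with projective gradeds and full fibre rank is split.
-/

set_option autoImplicit false
open scoped TensorProduct

namespace Groth.FiltModH

universe u v w

variable {Γ : Type w} [LinearOrder Γ] {R : Type u} [CommRing R] {M : Type v} [AddCommGroup M] [Module R M]

theorem baseChange_mono (K : Type*) [CommRing K] [Algebra R K] {N P : Submodule R M} (h : N ≤ P) :
    N.baseChange K ≤ P.baseChange K := by
  rw [Submodule.baseChange_eq_span, Submodule.baseChange_eq_span]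
  exact Submodule.span_mono (Submodule.map_mono h)

theorem baseChange_iSup (K : Type*) [CommRing K] [Algebra R K] {ι : Sort*} (N : ι → Submodule R M) :
    (⨆ i, N i).baseChange K = ⨆ i, (N i).baseChange K := by
  refine le_antisymm ?_ (iSup_le fun i => baseChange_mono K (le_iSup N i))
  rw [Submodule.baseChange_eq_span, Submodule.span_le]
  rintro _ ⟨x, hx, rfl⟩
  induction hx using Submodule.iSup_induction' with
  | mem i y hy => exact Submodule.mem_iSup_of_mem i (Submodule.tmul_mem_baseChange_of_mem 1 hy)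
  | zero => simp
  | add a b _ _ ha hb => rw [map_add]; exact add_mem ha hb

variable [Module.Finite R M]

/-- For a split filtration the fibre dimensions of the graded pieces add up to the fibre dimension. -/
theorem finrank_eq_finsum (K : Type*) [Field K] [Algebra R K] {G : Γ → Submodule R M} (hG : DirectSum.IsInternal G)
    (F : Γ → Submodule R M) (hF : ∀ γ, F γ = ⨆ η ∈ Set.Ici γ, G η)
    (Fp : Γ → Submodule R M) (hFp : ∀ γ, Fp γ = ⨆ η ∈ Set.Ioi γ, G η) :
    Module.finrank K (K ⊗[R] M) =
      ∑ᶠ γ, (Module.finrank K ((F γ).baseChange K) - Module.finrank K ((Fp γ).baseChange K)) := by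
  classical
  obtain ⟨π, hm, h₁, h₀⟩ := exists_proj hG
  obtain ⟨S, hS⟩ := exists_finset hG h₁ h₀
  let P : Γ → (K ⊗[R] M) →ₗ[K] K ⊗[R] M := fun γ => (π γ).baseChange K
  let V : Γ → Submodule K (K ⊗[R] M) := fun γ => (G γ).baseChange K
  have hPm : ∀ γ x, P γ x ∈ V γ := by
    intro γ x
    induction x using TensorProduct.induction_on with
    | zero => simp
    | tmul a y => simp only [P, LinearMap.baseChange_tmul]; exact Submodule.tmul_mem_baseChange_of_mem a (hm γ y)
    | add a b ha hb => rw [map_add]; exact add_mem ha hb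
  have hP1 : ∀ γ, ∀ x ∈ V γ, P γ x = x := by
    intro γ x hx
    have : (V γ : Submodule K (K ⊗[R] M)) ≤ LinearMap.eqLocus (P γ) LinearMap.id := by
      simp only [V, Submodule.baseChange_eq_span, Submodule.span_le]
      rintro _ ⟨y, hy, rfl⟩
      simp [P, h₁ γ y hy]
    exact this hx
  have hP0 : ∀ γ η, γ ≠ η → ∀ x ∈ V η, P γ x = 0 := by
    intro γ η hne x hx
    have : (V η : Submodule K (K ⊗[R] M)) ≤ LinearMap.ker (P γ) := by
      simp only [V, Submodule.baseChange_eq_span, Submodule.span_le]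
      rintro _ ⟨y, hy, rfl⟩
      simp [P, h₀ γ η hne y hy]
    exact this hx
  have hPS : ∀ x, ∑ γ ∈ S, P γ x = x := by
    intro x
    induction x using TensorProduct.induction_on with
    | zero => simp
    | tmul a y => simp only [P, LinearMap.baseChange_tmul, ← TensorProduct.tmul_sum, hS]
    | add a b ha hb => simp only [map_add, Finset.sum_add_distrib, ha, hb]
  have hdiff : ∀ γ, Module.finrank K ((F γ).baseChange K) - Module.finrank K ((Fp γ).baseChange K) =
      Module.finrank K (V γ) := by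
    intro γ
    have hsup : (F γ).baseChange K = V γ ⊔ (Fp γ).baseChange K := by
      rw [hF, hFp]
      simp only [baseChange_iSup, V]
      rw [← Set.Ioi_insert, iSup_insert]
    have hdisj : V γ ⊓ (Fp γ).baseChange K = ⊥ := by
      rw [eq_bot_iff]
      rintro x ⟨hx, hx'⟩
      have : (Fp γ).baseChange K ≤ LinearMap.ker (P γ) := by
        rw [hFp]
        simp only [baseChange_iSup]
        exact iSup₂_le fun η hη y hy => hP0 γ η (ne_of_lt hη) y hy
      rw [Submodule.mem_bot, ← hP1 γ x hx]
      exact this hx'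
    have := Submodule.finrank_sup_add_finrank_inf_eq (V γ) ((Fp γ).baseChange K)
    rw [← hsup, hdisj, finrank_bot, add_zero] at this
    omega
  simp only [hdiff]
  have hsupp : (Function.support fun γ => Module.finrank K (V γ)) ⊆ ↑S := by
    intro γ hγ
    by_contra hγS
    apply hγ
    show Module.finrank K (V γ) = 0
    rw [Submodule.finrank_eq_zero, eq_bot_iff]
    intro x hx
    rw [Submodule.mem_bot, ← hPS x]
    exact Finset.sum_eq_zero fun η hη => hP0 η γ (fun e => hγS (e ▸ hη)) x hx
  have : ∀ γ, Module.Free K (V γ) := fun γ => Module.Free.of_divisionRing K (V γ)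
  rw [finsum_eq_sum_of_support_subset _ hsupp, ← Finset.sum_coe_sort, ← Module.finrank_pi_fintype K]
  let f : (K ⊗[R] M) →ₗ[K] (∀ γ : S, V γ) := LinearMap.pi fun γ => (P γ).codRestrict (V γ) (hPm γ)
  refine LinearEquiv.finrank_eq (LinearEquiv.ofBijective f ⟨?_, ?_⟩)
  · intro x y hxy
    rw [← hPS x, ← hPS y]
    exact Finset.sum_congr rfl fun γ hγ => congrArg Subtype.val (congrFun hxy ⟨γ, hγ⟩)
  · intro z
    refine ⟨∑ γ : S, (z γ : K ⊗[R] M), funext fun γ => Subtype.ext ?_⟩
    show P γ (∑ η : S, (z η : K ⊗[R] M)) = z γ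
    rw [map_sum, Finset.sum_eq_single γ (fun η _ hne => hP0 _ _ (fun e => hne (Subtype.ext e.symm)) _ (z η).2)
      (fun h => absurd (Finset.mem_univ _) h), hP1 _ _ (z γ).2]

omit [LinearOrder Γ] [Module.Finite R M] in
theorem span_ne_top_aux {K : Type*} [CommRing K] [Algebra R K] (N : Submodule R M) (h : N.baseChange K = ⊤) :
    Subsingleton (K ⊗[R] (M ⧸ N)) := by
  refine subsingleton_of_forall_eq 0 fun z => ?_
  obtain ⟨y, rfl⟩ := LinearMap.baseChange_surjective (A := K) (hg := Submodule.mkQ_surjective N) z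
  have hle : N.baseChange K ≤ LinearMap.ker (N.mkQ.baseChange K) := by
    rw [Submodule.baseChange_eq_span, Submodule.span_le]
    rintro _ ⟨x, hx, rfl⟩
    simp [(Submodule.Quotient.mk_eq_zero N).2 hx]
  exact hle (h ▸ trivial)

/-- A filtration with liftable gradeds and full fibre rank at every prime is split. -/
theorem exists_splitting_of_finrank (F : Γ → Submodule R M) (hF : Antitone F)
    (Fp : Γ → Submodule R M) (hFp : ∀ γ, Fp γ = ⨆ η ∈ Set.Ioi γ, F η)
    (hproj : ∀ γ, Module.Projective R (↥(F γ) ⧸ Submodule.comap (F γ).subtype (Fp γ)))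
    (hrank : ∀ p : PrimeSpectrum R, Module.finrank p.asIdeal.ResidueField (p.asIdeal.ResidueField ⊗[R] M) =
      ∑ᶠ γ, (Module.finrank p.asIdeal.ResidueField ((F γ).baseChange p.asIdeal.ResidueField) -
        Module.finrank p.asIdeal.ResidueField ((Fp γ).baseChange p.asIdeal.ResidueField))) :
    ∃ G : Γ → Submodule R M, DirectSum.IsInternal G ∧ ∀ γ, F γ = ⨆ η ∈ Set.Ici γ, G η := by
  classical
  have hsec : ∀ γ, ∃ s : (↥(F γ) ⧸ Submodule.comap (F γ).subtype (Fp γ)) →ₗ[R] F γ,
      (Submodule.comap (F γ).subtype (Fp γ)).mkQ ∘ₗ s = LinearMap.id := fun γ =>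
    haveI := hproj γ
    Module.projective_lifting_property _ _ (Submodule.mkQ_surjective _)
  choose s hs using hsec
  let G : Γ → Submodule R M := fun γ => LinearMap.range ((F γ).subtype ∘ₗ s γ)
  have hGF : ∀ γ, G γ ≤ F γ := fun γ => by rintro _ ⟨q, rfl⟩; exact (s γ q).2
  have hdec : ∀ γ, F γ ≤ G γ ⊔ Fp γ := by
    intro γ x hx
    let q := (Submodule.comap (F γ).subtype (Fp γ)).mkQ ⟨x, hx⟩
    have h : (Submodule.comap (F γ).subtype (Fp γ)).mkQ (⟨x, hx⟩ - s γ q) = 0 := by
      rw [map_sub, show (Submodule.comap (F γ).subtype (Fp γ)).mkQ (s γ q) = q from LinearMap.congr_fun (hs γ) q]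
      exact sub_self _
    exact Submodule.mem_sup.2 ⟨_, ⟨q, rfl⟩, _, (Submodule.Quotient.mk_eq_zero (Submodule.comap (F γ).subtype (Fp γ))).1 h, by simp⟩
  have hzero : ∀ γ, ∀ x ∈ G γ, x ∈ Fp γ → x = 0 := by
    rintro γ _ ⟨q, rfl⟩ hx
    have : q = 0 := by
      rw [show q = (Submodule.comap (F γ).subtype (Fp γ)).mkQ (s γ q) from (LinearMap.congr_fun (hs γ) q).symm]
      exact (Submodule.Quotient.mk_eq_zero _).2 hx
    simp [this]
  have hlow : ∀ (t : Finset Γ) (g : Γ → M), (∀ η ∈ t, g η ∈ G η) → ∀ γ ∈ t, (∀ η ∈ t, η < γ → g η = 0) →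
      ∑ η ∈ t, g η ∈ Fp γ → g γ = 0 := by
    intro t g hg γ hγ hlt hsum
    refine hzero γ _ (hg γ hγ) ?_
    rw [show g γ = (∑ η ∈ t, g η) - ∑ η ∈ t.erase γ, g η by rw [← Finset.add_sum_erase _ _ hγ]; abel]
    refine sub_mem hsum (Submodule.sum_mem _ fun η hη => ?_)
    obtain ⟨hne, hη⟩ := Finset.mem_erase.1 hη
    rcases lt_or_gt_of_ne hne with h | h
    · rw [hlt η hη h]; exact zero_mem _
    · rw [hFp]
      exact Submodule.mem_iSup_of_mem η (Submodule.mem_iSup_of_mem h (hGF η (hg η hη)))
  have hindep : iSupIndep G := by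
    rw [iSupIndep_iff_finset_sum_eq_zero_imp_eq_zero]
    intro t g hg hsum
    by_contra hne
    push Not at hne
    obtain ⟨γ₁, hγ₁, hne⟩ := hne
    have hn : (t.filter fun η => g η ≠ 0).Nonempty := ⟨γ₁, Finset.mem_filter.2 ⟨hγ₁, hne⟩⟩
    obtain ⟨hγ, hγne⟩ := Finset.mem_filter.1 (Finset.min'_mem _ hn)
    refine hγne (hlow t g hg _ hγ (fun η hη hlt => ?_) (by rw [hsum]; exact zero_mem _))
    by_contra h
    exact not_le.2 hlt (Finset.min'_le _ η (Finset.mem_filter.2 ⟨hη, h⟩))
  have htop : ⨆ γ, G γ = ⊤ := by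
    suffices h : Subsingleton (M ⧸ ⨆ γ, G γ) from Submodule.Quotient.subsingleton_iff.1 h
    rw [← Module.support_eq_empty_iff (R := R), Set.eq_empty_iff_forall_notMem]
    intro p hp
    rw [Module.mem_support_iff_nontrivial_residueField_tensorProduct] at hp
    refine not_subsingleton_iff_nontrivial.2 hp (span_ne_top_aux _ ?_)
    let V : Submodule p.asIdeal.ResidueField (p.asIdeal.ResidueField ⊗[R] M) :=
      (⨆ γ, G γ).baseChange p.asIdeal.ResidueField
    show V = ⊤
    let A : Γ → Submodule p.asIdeal.ResidueField (p.asIdeal.ResidueField ⊗[R] M) :=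
      fun γ => (F γ).baseChange p.asIdeal.ResidueField
    let B : Γ → Submodule p.asIdeal.ResidueField (p.asIdeal.ResidueField ⊗[R] M) :=
      fun γ => (Fp γ).baseChange p.asIdeal.ResidueField
    have hstep : ∀ γ, Module.finrank p.asIdeal.ResidueField (V ⊓ B γ : Submodule _ _) +
        (Module.finrank p.asIdeal.ResidueField (A γ) - Module.finrank p.asIdeal.ResidueField (B γ)) ≤
        Module.finrank p.asIdeal.ResidueField (V ⊓ A γ : Submodule _ _) := by
      intro γ
      have hBA : B γ ≤ A γ := baseChange_mono _ (by rw [hFp]; exact iSup₂_le fun η hη => hF hη.le)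
      have hle : A γ ≤ (V ⊓ A γ) ⊔ B γ := by
        refine le_trans (baseChange_mono _ (hdec γ)) ?_
        rw [show G γ ⊔ Fp γ = ⨆ b : Bool, cond b (G γ) (Fp γ) by rw [iSup_bool_eq]; rfl, baseChange_iSup, iSup_bool_eq]
        exact sup_le_sup (le_inf (baseChange_mono _ (le_iSup G γ)) (baseChange_mono _ (hGF γ))) le_rfl
      have e := Submodule.finrank_sup_add_finrank_inf_eq (V ⊓ A γ) (B γ)
      rw [le_antisymm (sup_le inf_le_right hBA) hle, inf_assoc, inf_eq_right.2 hBA] at e
      have := Submodule.finrank_mono hBA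
      omega
    have hsum : ∀ t : Finset Γ, t.Nonempty → ∃ γ ∈ t, (∀ η ∈ t, γ ≤ η) ∧
        ∑ η ∈ t, (Module.finrank p.asIdeal.ResidueField (A η) - Module.finrank p.asIdeal.ResidueField (B η)) ≤
          Module.finrank p.asIdeal.ResidueField (V ⊓ A γ : Submodule _ _) := by
      intro t
      induction t using Finset.induction_on_min with
      | empty => exact fun h => absurd h (by simp)
      | insert a t hlt ih =>
        intro _
        refine ⟨a, Finset.mem_insert_self _ _, fun η hη => (Finset.mem_insert.1 hη).elim (fun e => e.ge) (fun h => (hlt η h).le), ?_⟩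
        rw [Finset.sum_insert fun h => lt_irrefl a (hlt a h)]
        rcases t.eq_empty_or_nonempty with rfl | ht
        · rw [Finset.sum_empty, add_zero]; exact le_trans (Nat.le_add_left _ _) (hstep a)
        · obtain ⟨γ, hγ, -, hsum⟩ := ih ht
          have hle : V ⊓ A γ ≤ V ⊓ B a := inf_le_inf_left _ (baseChange_mono _ (by
            rw [hFp]; exact le_iSup₂_of_le γ (hlt γ hγ) le_rfl))
          have := Submodule.finrank_mono hle
          have := hstep a
          omega
    refine Submodule.eq_top_of_finrank_eq (le_antisymm (Submodule.finrank_le _) ?_)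
    rw [hrank p]
    by_cases hfin : (Function.support fun γ => Module.finrank p.asIdeal.ResidueField (A γ) -
        Module.finrank p.asIdeal.ResidueField (B γ)).Finite
    · rw [finsum_eq_sum _ hfin]
      rcases hfin.toFinset.eq_empty_or_nonempty with he | he
      · simp [he]
      · obtain ⟨γ, -, -, h⟩ := hsum _ he
        exact le_trans h (Submodule.finrank_mono inf_le_left)
    · rw [finsum_of_infinite_support hfin]; exact Nat.zero_le _
  refine ⟨G, (DirectSum.isInternal_submodule_iff_iSupIndep_and_iSup_eq_top G).2 ⟨hindep, htop⟩, fun γ =>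
    le_antisymm (fun x hx => ?_) (iSup₂_le fun η hη => (hGF η).trans (hF hη))⟩
  have hxt : x ∈ ⨆ η, G η := htop ▸ trivial
  obtain ⟨f, hf, rfl⟩ := (Submodule.mem_iSup_iff_exists_finsupp G x).1 hxt
  refine Submodule.sum_mem _ fun η hη => ?_
  by_cases hle : γ ≤ η
  · exact Submodule.mem_iSup_of_mem η (Submodule.mem_iSup_of_mem hle (hf η))
  · exfalso
    have hn : f.support.Nonempty := ⟨η, hη⟩
    refine Finsupp.mem_support_iff.1 (Finset.min'_mem _ hn) (hlow f.support f (fun ζ _ => hf ζ) _
      (Finset.min'_mem _ hn) (fun ζ hζ hlt => absurd (Finset.min'_le _ ζ hζ) (not_le.2 hlt)) ?_)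
    rw [hFp]
    exact Submodule.mem_iSup_of_mem γ (Submodule.mem_iSup_of_mem
      (lt_of_le_of_lt (Finset.min'_le _ η hη) (not_le.1 hle)) hx)

end Groth.FiltModH
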